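import Mathlib

/-!
Primes dividing the index of the extension field subgroup of a symplectic group.
-/

set_option autoImplicit false

namespace Cfsg.Agent.SpExt

theorem arith {q d m k r N i : ℕ} (hq : 1 < q) (hk : k.Prime) (hr : r.Prime) (hd : d = k * m)
    (hi : i = orderOf (q : ZMod r)) (hrq : ¬ r ∣ q)
    (hN : (q ^ k) ^ (m ^ 2) * ∏ j ∈ Finset.range m, ((q ^ k) ^ (2 * (j + 1)) - 1) ∣ N)
    (hdvd : N * r ∣ q ^ (d ^ 2) * ∏ j ∈ Finset.range d, (q ^ (2 * (j + 1)) - 1)) :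
    0 < i ∧ ∃ e, (if Even i then i else 2 * i) = 2 * e ∧ 1 ≤ e ∧ e ≤ d ∧ ¬ k ∣ e := by
  haveI := Fact.mk hr
  have hne : (q : ZMod r) ≠ 0 := fun e => hrq ((ZMod.natCast_eq_zero_iff _ _).1 e)
  have hipos : 0 < i := hi ▸ orderOf_pos_iff.2 (isOfFinOrder_iff_pow_eq_one.2
    ⟨r - 1, by have := hr.two_le; omega, ZMod.pow_card_sub_one_eq_one hne⟩)
  refine ⟨hipos, ?_⟩
  set g : ℕ → ℕ := fun j => q ^ (2 * (j + 1)) - 1
  have hsplit : ∏ j ∈ Finset.range d, g j = (∏ j ∈ Finset.range m, ((q ^ k) ^ (2 * (j + 1)) - 1)) *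
      ∏ j ∈ (Finset.range d).filter (fun j => ¬ k ∣ j + 1), g j := by
    rw [← Finset.prod_filter_mul_prod_filter_not (Finset.range d) (fun j => k ∣ j + 1)]
    congr 1
    refine Finset.prod_nbij' (fun j => (j + 1) / k - 1) (fun j => k * (j + 1) - 1) ?_ ?_ ?_ ?_ ?_
    · intro j hj
      rw [Finset.mem_filter, Finset.mem_range] at hj
      obtain ⟨hjd, c, hc⟩ := hj
      rw [Finset.mem_range, hc, Nat.mul_div_cancel_left _ hk.pos]
      have : k * c ≤ k * m := by omega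
      have := Nat.le_of_mul_le_mul_left this hk.pos
      rcases c with _ | c <;> simp_all
    · intro j hj
      rw [Finset.mem_range] at hj
      rw [Finset.mem_filter, Finset.mem_range]
      have h1 : k * (j + 1) ≤ k * m := Nat.mul_le_mul le_rfl hj
      have h2 : 0 < k * (j + 1) := Nat.mul_pos hk.pos j.succ_pos
      exact ⟨by omega, by rw [Nat.sub_add_cancel h2]; exact dvd_mul_right _ _⟩
    · intro j hj
      rw [Finset.mem_filter] at hj
      obtain ⟨c, hc⟩ := hj.2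
      rw [hc, Nat.mul_div_cancel_left _ hk.pos]
      rcases c with _ | c
      · simp at hc
      · simp only [Nat.add_sub_cancel]; omega
    · intro j _
      rw [Nat.sub_add_cancel (Nat.mul_pos hk.pos j.succ_pos), Nat.mul_div_cancel_left _ hk.pos]
      omega
    · intro j hj
      rw [Finset.mem_filter] at hj
      obtain ⟨c, hc⟩ := hj.2
      simp only [g]
      rcases c with _ | c
      · simp at hc
      · rw [hc, Nat.mul_div_cancel_left _ hk.pos, Nat.add_sub_cancel, ← pow_mul, mul_left_comm]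
  set A := ∏ j ∈ Finset.range m, ((q ^ k) ^ (2 * (j + 1)) - 1)
  have hA : 0 < A := Finset.prod_pos fun j _ =>
    Nat.sub_pos_of_lt (Nat.one_lt_pow (by omega) (Nat.one_lt_pow hk.ne_zero hq))
  rw [hsplit] at hdvd
  have h1 : A * r ∣ A * (q ^ (d ^ 2) * ∏ j ∈ (Finset.range d).filter (fun j => ¬ k ∣ j + 1), g j) := by
    rw [mul_left_comm A]
    exact (mul_dvd_mul_right ((dvd_mul_left A _).trans hN) r).trans hdvd
  rcases hr.dvd_mul.1 (Nat.dvd_of_mul_dvd_mul_left hA h1) with h | h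
  · exact absurd (hr.dvd_of_dvd_pow h) hrq
  obtain ⟨j, hj, hjd⟩ := (Prime.dvd_finsetProd_iff hr.prime _).1 h
  rw [Finset.mem_filter, Finset.mem_range] at hj
  have h0 := (ZMod.natCast_eq_zero_iff _ r).2 hjd
  simp only [g] at h0
  rw [Nat.cast_sub (Nat.one_le_pow _ _ (by omega)), sub_eq_zero, Nat.cast_pow, Nat.cast_one] at h0
  have hdv : i ∣ 2 * (j + 1) := hi ▸ orderOf_dvd_of_pow_eq_one h0
  obtain ⟨e, he, hej⟩ : ∃ e, (if Even i then i else 2 * i) = 2 * e ∧ e ∣ j + 1 := by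
    by_cases he : Even i
    · obtain ⟨e, hie⟩ := he
      refine ⟨e, by rw [if_pos ⟨e, hie⟩]; omega, Nat.dvd_of_mul_dvd_mul_left two_pos ?_⟩
      rwa [two_mul, ← hie]
    · exact ⟨i, if_neg he,
        (Nat.coprime_two_right.2 (Nat.not_even_iff_odd.1 he)).dvd_of_dvd_mul_left hdv⟩
  refine ⟨e, he, ?_, (Nat.le_of_dvd (by omega) hej).trans (by omega), fun hke => hj.2 (hke.trans hej)⟩
  by_contra h
  have : e = 0 := by omega
  subst this
  split_ifs at he <;> omega

end Cfsg.Agent.SpExt
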