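import Cfsg.Agent.ExtFieldMax.Sp.Form
import Cfsg.Agent.Classical10.SpInvolTwo.Forms
import Cfsg.Agent.ClMax99.SpGLCard
import Cfsg.Agent.ClMax99.SympInv

/-!
Self-adjoint field subalgebras with alternating multiples: the coordinates over the field.
-/

set_option autoImplicit false
set_option linter.unusedSectionVars false

namespace Cfsg.Agent.SpExt

open Module Matrix Cfsg.Agent.Symplectic
open Cfsg.Agent.ExtFieldMax (ev kModule isField_of)

variable {F : Type*} [Field F] [Fintype F] {d k : ℕ}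

theorem chart_facts (hk : k.Prime) {K : Subalgebra F (Matrix (Fin d ⊕ Fin d) (Fin d ⊕ Fin d) F)}
    (hK : Cfsg.Geo.IsFieldSubalgebra k K) (hsa : Cfsg.Geo.IsSelfAdjointFor (Cfsg.sympForm d F) K)
    (halt : ∀ a ∈ K, ∀ v : Fin d ⊕ Fin d → F, Cfsg.sympForm d F (a *ᵥ v) v = 0) :
    (∀ W : Submodule F (Vec d F), ClMax99.SympInv.Nd (Forms.sympBilin d F) W →
      (∀ a ∈ K, ∀ v ∈ W, a *ᵥ v ∈ W) → ∃ j, finrank F W = 2 * (k * j)) ∧
    ∃ m, d = k * m ∧
      (Fintype.card F ^ k) ^ (m ^ 2) * ∏ i ∈ Finset.range m, ((Fintype.card F ^ k) ^ (2 * (i + 1)) - 1) ∣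
        Nat.card ↥(Cfsg.Geo.subalgebraNormalizer K ⊓ Cfsg.spGL d F) := by
  classical
  have hf := MaxSub.isSymplecticForm_sympForm (F := F) d
  obtain ⟨G⟩ := ExtFieldMax.Sp.exists_kForm hf hK hk
  letI : Field K := (isField_of hK hk.one_le).toField
  letI : Fintype K := Fintype.ofFinite K
  letI : Module K (Vec d F) := kModule K
  haveI : Module.Finite K (Vec d F) := Module.Finite.of_finite
  have hsmul : ∀ (a : K) (v : Vec d F), a • v = (a : Matrix (Fin d ⊕ Fin d) (Fin d ⊕ Fin d) F) *ᵥ v :=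
    fun a v => rfl
  have hsc : ∀ (c : F) (v : Vec d F), (algebraMap F K c) • v = c • v := fun c v =>
    (hsmul _ v).trans (ExtFieldMax.smul_one_mem c v)
  let B : LinearMap.BilinForm K (Vec d F) := LinearMap.mk₂ K (fun v x => G.phi v x)
    (fun v w x => ExtFieldMax.Sp.phi_add hf G v w x)
    (fun a v x => ExtFieldMax.Sp.phi_ev_left hK hsa G v a x)
    (fun v x y => map_add (G.phi v) x y)
    (fun a v x => G.klin v a x)
  have hB : ∀ v x, B v x = G.phi v x := fun v x => rfl
  have hθ : ∀ v x, G.theta (B v x) = Cfsg.sympForm d F x v := fun v x => by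
    rw [hB]; exact ExtFieldMax.Sp.phi_one G v x
  have hq : Nat.card K = Fintype.card F ^ k := by
    rw [Module.natCard_eq_pow_finrank (K := F), hK.finrank_eq, Nat.card_eq_fintype_card]
  have hq1 : 1 < Fintype.card F := Fintype.one_lt_card
  have hmodel : ∀ P : Submodule K (Vec d F), (∀ x ∈ P, (∀ y ∈ P, B x y = 0) → x = 0) →
      ∃ (m : ℕ) (j : Vec m K →ₗ[K] Vec d F), Nat.card P = (Fintype.card F) ^ (2 * (k * m)) ∧
        Function.Injective j ∧ (∀ x, x ∈ P ↔ ∃ u, j u = x) ∧
        ∀ u v, B (j u) (j v) = Cfsg.sympForm m K u v := by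
    intro P hP
    obtain ⟨m, j, hm, hj⟩ := Classical10.SpInvolTwo.exists_symplectic_map B P
      (fun x _ => ExtFieldMax.Sp.phi_self halt G x) hP
    refine ⟨m, j, ?_, hj⟩
    rw [Module.natCard_eq_pow_finrank (K := K), hm, hq, ← pow_mul, mul_left_comm]
  constructor
  · intro W hW hst
    let P : Submodule K (Vec d F) :=
      { W.toAddSubmonoid with smul_mem' := fun a v hv => hst a a.2 v hv }
    have hPW : ∀ v, v ∈ P ↔ v ∈ W := fun v => Iff.rfl
    obtain ⟨m, j, hm, -⟩ := hmodel P fun x hx h => hW x hx fun y hy => by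
      rw [Forms.sympBilin_apply, sympForm_swap, ← hθ, h y hy, map_zero, neg_zero]
    refine ⟨m, ?_⟩
    have h1 : Nat.card W = Nat.card P := rfl
    rw [hm, Module.natCard_eq_pow_finrank (K := F), Nat.card_eq_fintype_card] at h1
    exact Nat.pow_right_injective hq1 h1
  obtain ⟨m, j, hm, hji, hj, hjB⟩ := hmodel ⊤ fun x _ h => Forms.sympForm_left_cancel fun y => by
    rw [sympForm_swap, ← hθ, h y trivial, map_zero, neg_zero]
  have hd : d = k * m := by
    have h1 : Nat.card (⊤ : Submodule K (Vec d F)) = Nat.card (Vec d F) :=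
      Nat.card_congr (Equiv.subtypeUnivEquiv fun _ => trivial)
    rw [hm, Module.natCard_eq_pow_finrank (K := F) (V := Vec d F), Nat.card_eq_fintype_card,
      Module.finrank_pi, Fintype.card_sum, Fintype.card_fin] at h1
    have := Nat.pow_right_injective hq1 h1
    omega
  refine ⟨m, hd, ?_⟩
  let e : Vec m K ≃ₗ[K] Vec d F := LinearEquiv.ofBijective j ⟨hji, fun x => (hj x).1 trivial⟩
  have hje : ∀ u, e u = j u := fun u => rfl
  let φ : Sp m K →* Module.End F (Vec d F) :=
    { toFun := fun g =>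
        { toFun := fun v => e (g • e.symm v)
          map_add' := fun u v => by rw [map_add, smul_add, map_add]
          map_smul' := fun c v => by
            rw [RingHom.id_apply, ← hsc]; erw [e.symm.map_smul, smul_comm g, e.map_smul]; exact hsc _ _ }
      map_one' := LinearMap.ext fun v => by
        show e ((1 : Sp m K) • e.symm v) = v
        rw [one_smul, e.apply_symm_apply]
      map_mul' := fun g h => LinearMap.ext fun v => by
        show e ((g * h) • e.symm v) = e (g • e.symm (e (h • e.symm v)))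
        rw [mul_smul, e.symm_apply_apply] }
  let ψ : Sp m K →* GL (Fin d ⊕ Fin d) F :=
    (Units.map (LinearMap.toMatrixAlgEquiv' (R := F) (n := Fin d ⊕ Fin d)).toRingEquiv.toMulEquiv.toMonoidHom).comp
      φ.toHomUnits
  have hψ : ∀ g v, (ψ g : Matrix (Fin d ⊕ Fin d) (Fin d ⊕ Fin d) F) *ᵥ v = e (g • e.symm v) := fun g v => by
    show LinearMap.toMatrixAlgEquiv' (φ g) *ᵥ v = _
    rw [← Matrix.toLinAlgEquiv'_apply, Matrix.toLinAlgEquiv'_toMatrixAlgEquiv']
    rfl
  have hinj : Function.Injective ψ := fun g h hgh => eq_of_smul_eq fun u => e.injective (by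
    have := hψ g (e u)
    rw [hgh, hψ, e.symm_apply_apply] at this
    exact this.symm)
  have hle : ψ.range ≤ Cfsg.Geo.subalgebraNormalizer K ⊓ Cfsg.spGL d F := by
    rintro _ ⟨g, rfl⟩
    refine ⟨ExtFieldMax.mem_normalizer_of_comm fun a x => ?_, ClMax99.SpGL.mem_iff.2 fun u v => ?_⟩
    · rw [hψ, hψ, ← hsmul, ← hsmul]; erw [e.symm.map_smul, smul_comm g, e.map_smul]; rfl
    · rw [hψ, hψ, ← hθ, ← hθ v u]
      congr 1
      rw [hje, hje, hjB, sympForm_smul_smul, ← hjB, ← hje, ← hje, e.apply_symm_apply, e.apply_symm_apply]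
  have h2 := Subgroup.card_dvd_of_le hle
  rw [← MonoidHom.ofInjective hinj |>.toEquiv |> Nat.card_congr,
    card_Sp (q := Fintype.card F ^ k) (by rw [← Nat.card_eq_fintype_card, hq])] at h2
  exact h2

end Cfsg.Agent.SpExt
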