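import Cfsg.Prelude.Def_GeometricClasses
import Mathlib.FieldTheory.Galois.Basic
import Mathlib.FieldTheory.Finite.GaloisField
import Cfsg.Agent.ExtFieldMax.Elem

/-!
Elements normalising a field subalgebra.
-/

set_option autoImplicit false
set_option linter.unusedSectionVars false

namespace Cfsg.Agent.SpExt

open Module Matrix

variable {F : Type*} [Field F] [Fintype F] {ι : Type} [Fintype ι] [DecidableEq ι]
variable {K : Subalgebra F (Matrix ι ι F)}

theorem rank_sub_le (A B : Matrix ι ι F) : (A - B).rank ≤ A.rank + B.rank := by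
  refine le_trans (Submodule.finrank_mono ?_) (Submodule.finrank_add_le_finrank_add_finrank _ _)
  rintro _ ⟨v, rfl⟩
  refine Submodule.mem_sup.2 ⟨A *ᵥ v, ⟨v, rfl⟩, -(B *ᵥ v), neg_mem ⟨v, rfl⟩, ?_⟩
  rw [Matrix.mulVecLin_apply, Matrix.sub_mulVec, sub_eq_add_neg]

/-- An element normalising, but not centralising, the field moves at least half the space. -/
theorem semilinear_rank {k : ℕ} (hK : Cfsg.Geo.IsFieldSubalgebra k K) {y : GL ι F}
    (hy : y ∈ Cfsg.Geo.subalgebraNormalizer K)
    {a : Matrix ι ι F} (ha : a ∈ K) (hne : (y : Matrix ι ι F) * a ≠ a * (y : Matrix ι ι F)) :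
    Fintype.card ι ≤ 2 * ((y : Matrix ι ι F) - 1).rank := by
  set Y := (y : Matrix ι ι F)
  set a' := Y * a * ((y⁻¹ : GL ι F) : Matrix ι ι F) with ha'
  have ha'K : a' ∈ K := (hy a).1 ha
  have hYa : a' * Y = Y * a := by
    rw [ha', mul_assoc, ← Units.val_mul, inv_mul_cancel, Units.val_one, mul_one]
  have hne' : a' - a ≠ 0 := fun e => hne (by rw [← hYa, sub_eq_zero.1 e])
  obtain ⟨b, -, hb⟩ := hK.inv _ (K.sub_mem ha'K ha) hne'
  have hu : IsUnit (a' - a) := ⟨⟨a' - a, b, hb, mul_eq_one_comm.1 hb⟩, rfl⟩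
  have e : (Y - 1) * a - a' * (Y - 1) = a' - a := by
    rw [sub_mul, mul_sub, one_mul, mul_one, hYa]; abel
  have h := rank_sub_le ((Y - 1) * a) (a' * (Y - 1))
  rw [e, Matrix.rank_of_isUnit _ hu] at h
  have h1 := Matrix.rank_mul_le_left (Y - 1) a
  have h2 := Matrix.rank_mul_le_right a' (Y - 1)
  omega

/-- An element of prime order inducing a non-trivial automorphism has order the degree. -/
theorem order_eq_degree {k r : ℕ} (hk : k.Prime) (hr : r.Prime) (hK : Cfsg.Geo.IsFieldSubalgebra k K)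
    {y : GL ι F} (hy : y ∈ Cfsg.Geo.subalgebraNormalizer K) (hyr : y ^ r = 1)
    {a : Matrix ι ι F} (ha : a ∈ K) (hne : (y : Matrix ι ι F) * a ≠ a * (y : Matrix ι ι F)) :
    r = k := by
  classical
  letI : Field K := (ExtFieldMax.isField_of hK hk.one_le).toField
  haveI : Finite K := inferInstance
  haveI : Module.Finite F K := Module.Finite.of_finite
  haveI := Fact.mk hr
  let f : GL ι F → (Matrix ι ι F) → Matrix ι ι F := fun g A => (g : Matrix ι ι F) * A * ((g⁻¹ : GL ι F) : Matrix ι ι F)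
  have hfm : ∀ g h A, f g (f h A) = f (g * h) A := fun g h A => by
    simp only [f, _root_.mul_inv_rev, Units.val_mul, mul_assoc]
  have hf1 : ∀ A, f 1 A = A := fun A => by simp [f]
  let σ : K ≃ₐ[F] K :=
    { toFun := fun A => ⟨f y A, (hy A.1).1 A.2⟩
      invFun := fun A => ⟨f y⁻¹ A, ((inv_mem hy : y⁻¹ ∈ Cfsg.Geo.subalgebraNormalizer K) A.1).1 A.2⟩
      left_inv := fun A => Subtype.ext (by show f y⁻¹ (f y A) = A; rw [hfm, inv_mul_cancel, hf1])
      right_inv := fun A => Subtype.ext (by show f y (f y⁻¹ A) = A; rw [hfm, mul_inv_cancel, hf1])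
      map_mul' := fun A B => Subtype.ext (by
        show f y (A.1 * B.1) = f y A * f y B
        simp only [f, mul_assoc]
        rw [← mul_assoc ((y⁻¹ : GL ι F) : Matrix ι ι F) (y : Matrix ι ι F), ← Units.val_mul, inv_mul_cancel,
          Units.val_one, one_mul])
      map_add' := fun A B => Subtype.ext (by
        show f y (A.1 + B.1) = f y A + f y B
        simp only [f, mul_add, add_mul])
      commutes' := fun c => Subtype.ext (by
        show f y (algebraMap F (Matrix ι ι F) c) = algebraMap F (Matrix ι ι F) c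
        simp only [f, Algebra.algebraMap_eq_smul_one, Matrix.mul_smul, Matrix.smul_mul,
          mul_one, ← Units.val_mul, mul_inv_cancel, Units.val_one]) }
  have hpow : ∀ (n : ℕ) (A : K), (((σ ^ n) A : K) : Matrix ι ι F) = f (y ^ n) A := by
    intro n
    induction n with
    | zero => intro A; simp [hf1]
    | succ n ih =>
      intro A
      rw [pow_succ', AlgEquiv.mul_apply, pow_succ', ← hfm]
      show f y ((σ ^ n) A : K) = _
      rw [ih]
  have hσr : σ ^ r = 1 := AlgEquiv.ext fun A => Subtype.ext (by rw [hpow, hyr, hf1]; rfl)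
  have hσ1 : σ ≠ 1 := fun e => hne (by
    have h := congrArg Subtype.val (AlgEquiv.congr_fun e (⟨a, ha⟩ : K))
    change (y : Matrix ι ι F) * a * ((y⁻¹ : GL ι F) : Matrix ι ι F) = a at h
    conv_rhs => rw [← h]
    rw [mul_assoc _ _ (y : Matrix ι ι F), ← Units.val_mul, inv_mul_cancel, Units.val_one, mul_one])
  have hord : orderOf σ = r := orderOf_eq_prime hσr hσ1
  have hdvd := orderOf_dvd_natCard σ
  rw [hord, IsGalois.card_aut_eq_finrank, hK.finrank_eq] at hdvd
  exact (Nat.prime_dvd_prime_iff_eq hr hk).1 hdvd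

/-- The image of the moved space of a commuting element is stable. -/
theorem range_stable {y : GL ι F} {a : Matrix ι ι F}
    (h : (y : Matrix ι ι F) * a = a * (y : Matrix ι ι F)) {v : ι → F}
    (hv : v ∈ LinearMap.range (Matrix.toLin' ((y : Matrix ι ι F) - 1))) :
    a *ᵥ v ∈ LinearMap.range (Matrix.toLin' ((y : Matrix ι ι F) - 1)) := by
  obtain ⟨w, rfl⟩ := hv
  refine ⟨a *ᵥ w, ?_⟩
  simp only [Matrix.toLin'_apply, Matrix.mulVec_mulVec, sub_mul, mul_sub, h, one_mul, mul_one]

end Cfsg.Agent.SpExt
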