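import Cfsg.Agent.Lib.Forms.Symp
import Cfsg.Agent.ClMax99.SympConj

/-!
Involutions of the four-dimensional symplectic group and self-adjoint quadratic extensions.
-/

set_option autoImplicit false
set_option linter.unusedSectionVars false

namespace Cfsg.Agent.SpExt

open Module Cfsg.Agent.Symplectic

variable {F : Type*} [Field F] [Fintype F]

local notation "B₀" => Forms.sympBilin 2 F

theorem swap₀ (u v : Vec 2 F) : B₀ v u = -B₀ u v :=
  (LinearMap.IsAlt.neg (B := B₀) Forms.sympBilin_isAlt u v).symm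

theorem self₀ (u : Vec 2 F) : B₀ u u = 0 := Forms.sympBilin_isAlt u

theorem left_cancel₀ {u : Vec 2 F} (h : ∀ v, B₀ u v = 0) : u = 0 := Forms.sympBilin_nondegenerate.1 u h

/-- A pair of orthogonal planes. -/
structure Planes (u v : Fin 2 → Vec 2 F) (c : Fin 2 → F) : Prop where
  uv : ∀ i j, B₀ (u i) (v j) = if i = j then c i else 0
  uu : ∀ i j, B₀ (u i) (u j) = 0
  vv : ∀ i j, B₀ (v i) (v j) = 0
  ne : ∀ i, c i ≠ 0

theorem Planes.vu {u v : Fin 2 → Vec 2 F} {c : Fin 2 → F} (h : Planes u v c) (i j : Fin 2) :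
    B₀ (v i) (u j) = if i = j then -c i else 0 := by
  rw [swap₀, h.uv]
  by_cases e : i = j
  · subst e; simp
  · rw [if_neg e, if_neg (Ne.symm e), neg_zero]

theorem Planes.exists_basis {u v : Fin 2 → Vec 2 F} {c : Fin 2 → F} (h : Planes u v c) :
    ∃ b : Basis (Fin 2 ⊕ Fin 2) F (Vec 2 F), ⇑b = Sum.elim u v := by
  have hli : LinearIndependent F (Sum.elim u v) := by
    rw [Fintype.linearIndependent_iff]
    intro g hg
    simp only [Fintype.sum_sum_type, Sum.elim_inl, Sum.elim_inr] at hg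
    rintro (i | i)
    · have := congrArg (fun z => B₀ z (v i)) hg
      fin_cases i <;> simpa [h.uv, h.vv, h.ne] using this
    · have := congrArg (fun z => B₀ z (u i)) hg
      fin_cases i <;> simpa [h.vu, h.uu, h.ne] using this
  exact ⟨basisOfLinearIndependentOfCardEqFinrank hli (by simp), coe_basisOfLinearIndependentOfCardEqFinrank _ _⟩

/-- A self-adjoint square root of a non-square swapping two planes. -/
theorem build {δ : F} {u v : Fin 2 → Vec 2 F} {c : Fin 2 → F} (h : Planes u v c) (hc : c 1 = δ * c 0) :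
    ∃ (b : Basis (Fin 2 ⊕ Fin 2) F (Vec 2 F)) (j : Module.End F (Vec 2 F)), ⇑b = Sum.elim u v ∧
      j (u 0) = u 1 ∧ j (v 0) = v 1 ∧ j (u 1) = δ • u 0 ∧ j (v 1) = δ • v 0 ∧
      (∀ x, j (j x) = δ • x) ∧ ∀ x y, B₀ (j x) y = B₀ x (j y) := by
  obtain ⟨b, hb⟩ := h.exists_basis
  let j : Module.End F (Vec 2 F) := b.constr F (Sum.elim ![u 1, δ • u 0] ![v 1, δ • v 0])
  have hj : ∀ k, j (b k) = Sum.elim ![u 1, δ • u 0] ![v 1, δ • v 0] k := fun k => b.constr_basis F _ k
  simp only [hb] at hj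
  have h1 : j (u 0) = u 1 := hj (Sum.inl 0)
  have h2 : j (v 0) = v 1 := hj (Sum.inr 0)
  have h3 : j (u 1) = δ • u 0 := hj (Sum.inl 1)
  have h4 : j (v 1) = δ • v 0 := hj (Sum.inr 1)
  refine ⟨b, j, hb, h1, h2, h3, h4, fun x => ?_, fun x y => ?_⟩
  · have : j ∘ₗ j = δ • LinearMap.id := b.ext fun k => by
      rcases k with i | i <;> fin_cases i <;> simp [hb, h1, h2, h3, h4]
    exact LinearMap.congr_fun this x
  · have : LinearMap.compl₁₂ B₀ j LinearMap.id = LinearMap.compl₁₂ B₀ LinearMap.id j := by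
      refine LinearMap.ext_basis b b fun k l => ?_
      rcases k with i | i <;> fin_cases i <;> rcases l with i' | i' <;> fin_cases i' <;>
        simp [hb, h1, h2, h3, h4, h.uu, h.vv, h.uv, h.vu, hc]
    exact LinearMap.congr_fun₂ this x y

theorem exists_perp {u v : Vec 2 F} {c : F} (hc : B₀ u v = c) (hc0 : c ≠ 0) :
    (∃ w : Vec 2 F, w ≠ 0 ∧ B₀ u w = 0 ∧ B₀ v w = 0) ∧
    ∀ w, B₀ u w = 0 → B₀ v w = 0 → w ≠ 0 → ∃ w', B₀ u w' = 0 ∧ B₀ v w' = 0 ∧ B₀ w w' ≠ 0 := by
  refine ⟨?_, fun w hu hv hw => ?_⟩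
  · let L : Vec 2 F →ₗ[F] F × F := (B₀ u).prod (B₀ v)
    have := L.finrank_range_add_finrank_ker
    have h2 := (LinearMap.range L).finrank_le
    rw [Module.finrank_prod, Module.finrank_self] at h2
    rw [Module.finrank_pi, Fintype.card_sum, Fintype.card_fin] at this
    obtain ⟨w, hw, hw0⟩ := (Submodule.ne_bot_iff _).1 (fun e : LinearMap.ker L = ⊥ => by
      rw [e, finrank_bot] at this; omega)
    simp [L] at hw
    exact ⟨w, hw0, hw.1, hw.2⟩
  · obtain ⟨x, hx⟩ : ∃ x, B₀ w x ≠ 0 := by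
      by_contra hn; push Not at hn; exact hw (left_cancel₀ hn)
    refine ⟨x - (B₀ u x / c) • v + (B₀ v x / c) • u, ?_, ?_, ?_⟩
    · simp [hc, self₀, hc0]
    · simp [swap₀ u v, hc, self₀, hc0]
    · simp [swap₀ u w, swap₀ v w, hu, hv, hx]

/-- An involution modulo scalars commutes or anticommutes with a self-adjoint square root. -/
theorem exists_commutant {δ : F} (hδ : δ ≠ 0) (h2 : (2 : F) ≠ 0) {T : Module.End F (Vec 2 F)}
    (hT : ∀ x y, B₀ (T x) (T y) = B₀ x y) {z : F} (hz : z = 1 ∨ z = -1) (hTT : ∀ x, T (T x) = z • x)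
    (hns : ∀ s : F, T ≠ s • 1) :
    ∃ (j : Module.End F (Vec 2 F)) (s : F), s * s = 1 ∧ (∀ x, j (j x) = δ • x) ∧
      (∀ x y, B₀ (j x) y = B₀ x (j y)) ∧ ∀ x, T (j x) = s • j (T x) := by
  have hskew : ∀ x y, B₀ x (T y) = z * B₀ (T x) y := fun x y => by
    rw [← hT x, hTT, map_smul, smul_eq_mul]
  rcases hz with rfl | rfl
  · have hE : ∀ s : F, s * s = 1 → ∀ a, T a = s • a → a ≠ 0 → ∃ b, T b = s • b ∧ B₀ a b ≠ 0 := by
      intro s hs a ha ha0
      obtain ⟨x, hx⟩ : ∃ x, B₀ a x ≠ 0 := by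
        by_contra hn; push Not at hn; exact ha0 (left_cancel₀ hn)
      refine ⟨x + s • T x, ?_, ?_⟩
      · rw [map_add, map_smul, hTT, one_smul, smul_add, smul_smul, hs, one_smul, add_comm]
      · rw [map_add, map_smul, hskew, one_mul, ha, map_smul, LinearMap.smul_apply, smul_eq_mul, smul_eq_mul,
          ← mul_assoc, hs, one_mul, ← two_mul]
        exact mul_ne_zero h2 hx
    have hex : ∀ s : F, s * s = 1 → ∃ a, T a = s • a ∧ a ≠ 0 := by
      intro s hs
      by_contra hn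
      push Not at hn
      refine hns (-s) (LinearMap.ext fun x => ?_)
      have := hn (x + s • T x) (by rw [map_add, map_smul, hTT, one_smul, smul_add, smul_smul, hs, one_smul, add_comm])
      rw [add_eq_zero_iff_eq_neg] at this
      rw [LinearMap.smul_apply, Module.End.one_apply]
      nth_rewrite 2 [this]
      rw [smul_neg, neg_smul, neg_neg, smul_smul, hs, one_smul]
    obtain ⟨a, ha, ha0⟩ := hex 1 (one_mul 1)
    obtain ⟨b, hb, hab⟩ := hE 1 (one_mul 1) a ha ha0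
    obtain ⟨a', ha', ha0'⟩ := hex (-1) (by ring)
    obtain ⟨b', hb', hab'⟩ := hE (-1) (by ring) a' ha' ha0'
    simp only [one_smul, neg_smul] at ha hb ha' hb'
    have horth : ∀ x y, T x = x → T y = -y → B₀ x y = 0 := fun x y hx hy => by
      have := hT x y
      rw [hx, hy, map_neg] at this
      exact (mul_eq_zero.1 (show (2 : F) * B₀ x y = 0 by linear_combination -this)).resolve_left h2
    set b₁ := (δ * B₀ a b / B₀ a' b') • b' with hb₁
    have hb₁' : T b₁ = -b₁ := by rw [hb₁, map_smul, hb', smul_neg]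
    have hP : Planes ![a, a'] ![b, b₁] ![B₀ a b, δ * B₀ a b] := by
      refine ⟨fun i j => ?_, fun i j => ?_, fun i j => ?_, fun i => ?_⟩ <;> fin_cases i <;>
        (try fin_cases j) <;>
        simp [horth _ _ ha ha', horth _ _ ha hb₁', horth _ _ hb hb₁', horth _ _ hb ha', self₀, swap₀ b a', swap₀ a a', swap₀ b b₁, hab, hδ]
      rw [hb₁, map_smul, smul_eq_mul, div_mul_cancel₀ _ hab']
    obtain ⟨bs, j, hbs, h1, h2', h3, h4, hjj, hsa⟩ := build hP (δ := δ) (by simp)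
    simp only [Matrix.cons_val_zero, Matrix.cons_val_one] at h1 h2' h3 h4
    refine ⟨j, -1, by ring, hjj, hsa, fun x => ?_⟩
    have : T ∘ₗ j = (-1 : F) • (j ∘ₗ T) := bs.ext fun k => by
      rcases k with i | i <;> fin_cases i <;> simp [hbs, h1, h2', h3, h4, ha, hb, ha', hb₁']
    exact LinearMap.congr_fun this x
  · have hval : ∀ w : Vec 2 F, ∀ w' : Vec 2 F, B₀ (w + w') (T (w + w')) = B₀ w (T w) + B₀ w' (T w') + 2 * B₀ w (T w') := fun w w' => by
      have e : B₀ w' (T w) = B₀ w (T w') := by rw [hskew w w', swap₀ (T w)]; ring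
      simp only [map_add, LinearMap.add_apply]
      linear_combination e
    have hval2 : ∀ w (s t : F), B₀ (s • w + t • T w) (T (s • w + t • T w)) = (s ^ 2 + t ^ 2) * B₀ w (T w) := fun w s t => by
      simp only [map_add, map_smul, hTT, LinearMap.add_apply, LinearMap.smul_apply, smul_eq_mul, self₀,
        neg_smul, one_smul, map_neg, swap₀ w (T w), mul_neg, mul_zero]
      ring
    obtain ⟨a, ha⟩ : ∃ a, B₀ a (T a) ≠ 0 := by
      by_contra hn
      push Not at hn
      refine hns 0 ((zero_smul F (1 : Module.End F (Vec 2 F))).symm ▸ LinearMap.ext fun y => ?_)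
      refine left_cancel₀ fun x => ?_
      have h := hval x y
      rw [hn, hn, hn, add_zero, zero_add] at h
      rw [swap₀, (mul_eq_zero.1 h.symm).resolve_left h2, neg_zero]
    obtain ⟨⟨w, hw0, hw1, hw2⟩, hpart⟩ := exists_perp (u := a) (v := T a) rfl ha
    have hTperp : ∀ x, B₀ a x = 0 → B₀ (T a) x = 0 → B₀ a (T x) = 0 ∧ B₀ (T a) (T x) = 0 := fun x h h' =>
      ⟨by rw [hskew, h', mul_zero], by rw [hT, h]⟩
    obtain ⟨w₂, hw₂a, hw₂b, hw₂⟩ : ∃ x, B₀ a x = 0 ∧ B₀ (T a) x = 0 ∧ B₀ x (T x) ≠ 0 := by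
      by_contra hn
      push Not at hn
      obtain ⟨w', h1, h1', hne⟩ := hpart w hw1 hw2 hw0
      obtain ⟨g1, g2⟩ := hTperp w' h1 h1'
      have h := hval w (T w')
      rw [hn _ hw1 hw2, hn _ g1 g2, hn (w + T w') (by simp [hw1, g1]) (by simp [hw2, g2])] at h
      rw [hTT, neg_smul, one_smul, map_neg] at h
      exact mul_ne_zero h2 hne (by linear_combination h)
    obtain ⟨s, t, hst⟩ := ClMax99.SympConj.exists_form_value (z := (-1 : F))
      (d := δ * B₀ a (T a) / B₀ w₂ (T w₂)) (fun _ => neg_ne_zero.2 one_ne_zero)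
    set a' := s • w₂ + t • T w₂ with ha'
    obtain ⟨g1, g2⟩ := hTperp w₂ hw₂a hw₂b
    have hca : B₀ a a' = 0 ∧ B₀ (T a) a' = 0 := ⟨by simp [ha', hw₂a, g1], by simp [ha', hw₂b, g2]⟩
    obtain ⟨k1, k2⟩ := hTperp a' hca.1 hca.2
    have hca' : B₀ a' (T a') = δ * B₀ a (T a) := by
      rw [ha', hval2, show s ^ 2 + t ^ 2 = δ * B₀ a (T a) / B₀ w₂ (T w₂) by linear_combination hst,
        div_mul_cancel₀ _ hw₂]
    have hP : Planes ![a, a'] ![T a, T a'] ![B₀ a (T a), δ * B₀ a (T a)] := by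
      refine ⟨fun i j => ?_, fun i j => ?_, fun i j => ?_, fun i => ?_⟩ <;> fin_cases i <;>
        (try fin_cases j) <;>
        simp [self₀, hca.1, k1, k2, hca', ha, hδ, swap₀ (T a) a', hca.2, swap₀ a a', swap₀ (T a) (T a')]
    obtain ⟨bs, j, hbs, h1, h2', h3, h4, hjj, hsa⟩ := build hP (δ := δ) (by simp)
    simp only [Matrix.cons_val_zero, Matrix.cons_val_one] at h1 h2' h3 h4
    refine ⟨j, 1, by ring, hjj, hsa, fun x => ?_⟩
    have : T ∘ₗ j = (1 : F) • (j ∘ₗ T) := bs.ext fun k => by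
      rcases k with i | i <;> fin_cases i <;> simp [hbs, h1, h2', h3, h4, hTT]
    exact LinearMap.congr_fun this x

theorem exists_quad {δ : F} (hns : ∀ t : F, t * t ≠ δ) {j : Module.End F (Vec 2 F)}
    (hjj : ∀ x, j (j x) = δ • x) (hsa : ∀ x y, B₀ (j x) y = B₀ x (j y)) (h2 : (2 : F) ≠ 0) :
    ∃ u v : Vec 2 F, Planes ![u, j u] ![v, j v] ![1, δ] := by
  have hδ : δ ≠ 0 := fun e => hns 0 (by rw [e, mul_zero])
  set u : Vec 2 F := Pi.single (Sum.inl 0) 1 with hu
  have hu0 : u ≠ 0 := by simp [hu]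
  have heig : ∀ t : F, j u ≠ t • u := fun t ht => hns t (by
    have := hjj u
    rw [ht, map_smul, ht, smul_smul] at this
    exact smul_left_injective F hu0 this)
  obtain ⟨w, hw⟩ : ∃ w, B₀ (j u) w ≠ 0 := by
    by_contra hn; push Not at hn
    exact heig 0 (by rw [left_cancel₀ hn, zero_smul])
  obtain ⟨v, hv1, hv2⟩ : ∃ v, B₀ (j u) v = 0 ∧ B₀ u v ≠ 0 := by
    by_contra hn
    push Not at hn
    have hut : u = (B₀ u w / B₀ (j u) w) • j u := sub_eq_zero.1 (left_cancel₀ fun v => by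
      have := hn (v - (B₀ (j u) v / B₀ (j u) w) • w) (by simp [hw])
      simp only [map_sub, map_smul, smul_eq_mul, LinearMap.sub_apply, LinearMap.smul_apply] at this ⊢
      field_simp at this ⊢
      linear_combination this)
    have ht0 : B₀ u w / B₀ (j u) w ≠ 0 := fun e => hu0 (by rw [hut, e, zero_smul])
    exact heig (B₀ u w / B₀ (j u) w)⁻¹ (by rw [eq_inv_smul_iff₀ ht0]; exact hut.symm)
  refine ⟨u, (B₀ u v)⁻¹ • v, ?_⟩
  have halt : ∀ x, B₀ (j x) x = 0 := fun x =>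
    (mul_eq_zero.1 (show (2 : F) * B₀ (j x) x = 0 by linear_combination hsa x x + swap₀ (j x) x)).resolve_left h2
  have halt' : ∀ x, B₀ x (j x) = 0 := fun x => by rw [← hsa, halt]
  refine ⟨fun i k => ?_, fun i k => ?_, fun i k => ?_, fun i => ?_⟩ <;> fin_cases i <;>
    (try fin_cases k) <;>
    simp [self₀, halt, halt', hv1, hv2, ← hsa, hjj, hδ]
  field_simp

/-- Two self-adjoint square roots are conjugate. -/
theorem exists_intertwine₂ {δ : F} (hns : ∀ t : F, t * t ≠ δ) (h2 : (2 : F) ≠ 0) {j j' : Module.End F (Vec 2 F)}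
    (hjj : ∀ x, j (j x) = δ • x) (hsa : ∀ x y, B₀ (j x) y = B₀ x (j y))
    (hjj' : ∀ x, j' (j' x) = δ • x) (hsa' : ∀ x y, B₀ (j' x) y = B₀ x (j' y)) :
    ∃ g : Vec 2 F ≃ₗ[F] Vec 2 F, (∀ x y, B₀ (g x) (g y) = B₀ x y) ∧ ∀ x, g (j x) = j' (g x) := by
  obtain ⟨u, v, hP⟩ := exists_quad hns hjj hsa h2
  obtain ⟨u', v', hP'⟩ := exists_quad hns hjj' hsa' h2
  obtain ⟨b, hb⟩ := hP.exists_basis
  obtain ⟨b', hb'⟩ := hP'.exists_basis
  let g := b.equiv b' (Equiv.refl _)
  have hg : ∀ k, g (b k) = b' k := fun k => b.equiv_apply k b' (Equiv.refl _)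
  simp only [hb, hb'] at hg
  have g1 : g u = u' := hg (Sum.inl 0)
  have g2 : g (j u) = j' u' := hg (Sum.inl 1)
  have g3 : g v = v' := hg (Sum.inr 0)
  have g4 : g (j v) = j' v' := hg (Sum.inr 1)
  refine ⟨g, fun x y => ?_, fun x => ?_⟩
  · have : LinearMap.compl₁₂ B₀ g.toLinearMap g.toLinearMap = B₀ := by
      refine LinearMap.ext_basis b b fun k l => ?_
      simp only [LinearMap.compl₁₂_apply, LinearEquiv.coe_coe, hb, hg]
      rcases k with i | i <;> rcases l with i' | i' <;>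
        simp only [Sum.elim_inl, Sum.elim_inr, hP.uu, hP.vv, hP.uv, hP.vu, hP'.uu, hP'.vv, hP'.uv, hP'.vu]
    exact LinearMap.congr_fun₂ this x y
  · have : g.toLinearMap ∘ₗ j = j' ∘ₗ g.toLinearMap := b.ext fun k => by
      rcases k with i | i <;> fin_cases i <;> simp [hb, g1, g2, g3, g4, hjj, hjj']
    exact LinearMap.congr_fun this x

end Cfsg.Agent.SpExt
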